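import Cfsg.Agent.H80.TTQuad.Residue
import Cfsg.Agent.H80.TTQuad.Quad
import Cfsg.Agent.Components.TTCore

/-!
Lines of commuting members of a class of 3-transpositions whose residues have a non-central
2-core: every line has an odd number of points, at least three, and every member commutes with
one or all of them.
-/

set_option autoImplicit false
set_option linter.unusedSectionVars false

namespace Cfsg.Agent.H68.Thick

open Cfsg
open H76.LocallyS3 (nb cj cj_cj cj_injective commute_cj_iff)
open H80.TTQuad (Cls B OnLine cj_one cj_inv_cj cj_cj_inv cj_eq_of_commute commute_of_cj_eq nb_symm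
  B_comm cj_mul_self even_ncard_of_involution commute_of_mem_closure_nb)

universe u

variable {G : Type u} [Group G] {D : Set G}

/-- The points of the line through two commuting members. -/
def Line (D : Set G) (p q : G) : Set G := {r : G | OnLine D p q r}

/-- The 2-core of the group generated by the members commuting with `p`. -/
def core2 (D : Set G) (p : G) : Subgroup G :=
  (Cfsg.pCore 2 ↥(Subgroup.closure (nb D p))).map (Subgroup.closure (nb D p)).subtype

/-- The members commuting with `p`, inside the group they generate. -/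
def nbS (D : Set G) (p : G) : Set ↥(Subgroup.closure (nb D p)) := {z | (z : G) ∈ nb D p}

theorem core2_isPGroup (p : G) : IsPGroup 2 (core2 D p) := Cores.pCore_isPGroup.map _

theorem core2_le (p : G) : core2 D p ≤ Subgroup.closure (nb D p) := Subgroup.map_subtype_le _

theorem commute_core2 {p e : G} (he : e ∈ core2 D p) : Commute e p :=
  commute_of_mem_closure_nb (core2_le p he)

theorem line_subset_B {p q : G} (hp : p ∈ D) (hq : q ∈ nb D p) : Line D p q ⊆ B D p q :=
  fun _ hr => ⟨hr.1, hr.2 p ⟨hp, Commute.refl p, hq.2.2⟩,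
    hr.2 q ⟨hq.1, hq.2.2.symm, Commute.refl q⟩⟩

theorem line_comm (p q : G) : Line D p q = Line D q p := by
  ext r
  simp only [Line, OnLine, Set.mem_setOf_eq, B_comm p q]

section Class

variable [Finite G] (H : Cls D)
include H

theorem mem_nb_of_line {p q r : G} (hp : p ∈ D) (hq : q ∈ nb D p) (hr : r ∈ Line D p q)
    (hne : r ≠ p) : r ∈ nb D p :=
  ⟨hr.1, hne, (line_subset_B hp hq hr).2.1.symm⟩

theorem line_commute {p q r r' : G} (hp : p ∈ D) (hq : q ∈ nb D p) (hr : r ∈ Line D p q)
    (hr' : r' ∈ Line D p q) : Commute r r' :=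
  hr.2 r' (line_subset_B hp hq hr')

theorem line_eq {p q r : G} (hp : p ∈ D) (hq : q ∈ nb D p) (hr : r ∈ Line D p q) (hne : r ≠ p) :
    Line D p r = Line D p q := by
  ext t
  exact H.onLine_trans hp hq hr hne

/-- Two points of a line give the line. -/
theorem B_eq_two {p q r r' : G} (hp : p ∈ D) (hq : q ∈ nb D p) (hr : r ∈ Line D p q)
    (hr' : r' ∈ Line D p q) (hne : r ≠ r') : B D r r' = B D p q := by
  by_cases hrp : r = p
  · subst hrp
    exact H.B_eq_of_onLine hp hq hr' fun e => hne e.symm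
  · have h1 := H.B_eq_of_onLine hp hq hr hrp
    have hpr : p ∈ nb D r := nb_symm hp (mem_nb_of_line H hp hq hr hrp)
    have h2 : OnLine D r p r' := ⟨hr'.1, fun d hd => hr'.2 d (by rwa [B_comm, h1] at hd)⟩
    rw [H.B_eq_of_onLine hr.1 hpr h2 fun e => hne e.symm, B_comm, h1]

theorem line_eq_two {p q r r' : G} (hp : p ∈ D) (hq : q ∈ nb D p) (hr : r ∈ Line D p q)
    (hr' : r' ∈ Line D p q) (hne : r ≠ r') : Line D r r' = Line D p q := by
  ext t
  simp only [Line, OnLine, Set.mem_setOf_eq, B_eq_two H hp hq hr hr' hne]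

theorem cj_line (g : G) (p q : G) : cj g '' Line D p q = Line D (cj g p) (cj g q) := by
  refine Set.Subset.antisymm ?_ fun r hr => ⟨cj g⁻¹ r, ?_, cj_cj_inv g r⟩
  · rintro _ ⟨r, hr, rfl⟩
    exact (H.onLine_cj g).2 hr
  · refine (H.onLine_cj (g := g)).1 ?_
    rw [cj_cj_inv]
    exact hr

theorem ncard_line {p q p' q' : G} (hp : p ∈ D) (hq : q ∈ nb D p) (hp' : p' ∈ D)
    (hq' : q' ∈ nb D p') : (Line D p q).ncard = (Line D p' q').ncard := by
  obtain ⟨g, rfl, rfl⟩ := H.exists_cj_pair hp hq hp' hq'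
  rw [← cj_line H g p q, Set.ncard_image_of_injective _ (cj_injective g)]

theorem isClass_nbS {p : G} (hp : p ∈ D) : IsThreeTranspositionClass (nbS D p) := by
  obtain ⟨y, hy⟩ := H.nb_nonempty hp
  set X := Subgroup.closure (nb D p) with hX
  refine ⟨⟨fun z hz => ?_, fun a ha b hb => ?_⟩, ⟨⟨y, Subgroup.subset_closure hy⟩, hy, ?_⟩, ?_⟩
  · rw [← Subgroup.orderOf_coe]; exact H.cl.1.1 _ hz.1
  · exact (H.cl.1.2 _ ha.1 _ hb.1).imp (fun h => Subtype.ext h) fun h => Subtype.ext h
  · refine Set.Subset.antisymm (fun z hz => ?_) fun z hz => ?_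
    · obtain ⟨k, hk, hkz⟩ := H44.dx_conjugate H.cl H.sol hp hy hz
      exact isConj_iff.2 ⟨⟨k, hk⟩, Subtype.ext hkz⟩
    · obtain ⟨k, rfl⟩ := isConj_iff.1 hz
      exact H.cj_mem_nb (commute_of_mem_closure_nb k.2) hy
  · rw [eq_top_iff]
    rintro ⟨z, hz⟩ -
    induction hz using Subgroup.closure_induction with
    | mem w hw => exact Subgroup.subset_closure (show w ∈ nb D p from hw)
    | one => exact one_mem _
    | mul a b ha hb iha ihb => exact mul_mem iha ihb
    | inv a ha iha => exact inv_mem iha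

/-- A point translated by the 2-core of `p` stays on its line through `p`. -/
theorem line_fix {p a e : G} (hp : p ∈ D) (ha : a ∈ nb D p) (he : e ∈ core2 D p) :
    OnLine D p a (cj e a) := by
  have hcl := isClass_nbS H hp
  obtain ⟨⟨e', he'X⟩, he', rfl⟩ := Subgroup.mem_map.1 he
  set a' : ↥(Subgroup.closure (nb D p)) := ⟨a, Subgroup.subset_closure ha⟩
  set y : ↥(Subgroup.closure (nb D p)) := ⟨e', he'X⟩ * a' * (⟨e', he'X⟩)⁻¹ with hy
  have hyD : y ∈ nbS D p := H.cj_mem_nb (commute_of_mem_closure_nb he'X) ha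
  have hm : a' * y ∈ Cfsg.pCore 2 ↥(Subgroup.closure (nb D p)) := by
    have hn : (Cfsg.pCore 2 ↥(Subgroup.closure (nb D p))).Normal := inferInstance
    have h1 := mul_mem (hn.conj_mem _ he' a') (inv_mem he')
    have hinv : a'⁻¹ = a' := Subtype.ext (H.inv' ha.1)
    rw [hinv] at h1
    rwa [hy, show a' * (⟨e', he'X⟩ * a' * (⟨e', he'X⟩ : ↥(Subgroup.closure (nb D p)))⁻¹)
      = a' * ⟨e', he'X⟩ * a' * (⟨e', he'X⟩ : ↥(Subgroup.closure (nb D p)))⁻¹ by group]
  refine ⟨(hyD : (y : G) ∈ nb D p).1, fun d hd => ?_⟩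
  by_cases hdp : d = p
  · subst hdp
    exact (hyD : (y : G) ∈ nb D d).2.2.symm
  have hdn : d ∈ nb D p := ⟨hd.1, hdp, hd.2.1.symm⟩
  have h := (Components.twin_of_pCore_two hcl.1 (show a' ∈ nbS D p from ha) hyD hm
    ⟨d, Subgroup.subset_closure hdn⟩ hdn).2 (Subtype.ext hd.2.2.symm.eq)
  exact congrArg Subtype.val h.eq

/-- Two points of a line through `p` differ by an element of the 2-core of `p`. -/
theorem mul_mem_core2 {p b b' : G} (hp : p ∈ D) (hb : b ∈ nb D p) (hb' : b' ∈ Line D p b)
    (hb'p : b' ≠ p) : b * b' ∈ core2 D p := by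
  have hcl := isClass_nbS H hp
  have hb'n := mem_nb_of_line H hp hb hb' hb'p
  have hB := H.B_eq_of_onLine hp hb hb' hb'p
  set X := Subgroup.closure (nb D p) with hX
  set b₁ : ↥X := ⟨b, Subgroup.subset_closure hb⟩
  set b₂ : ↥X := ⟨b', Subgroup.subset_closure hb'n⟩
  refine ⟨b₁ * b₂, ?_, rfl⟩
  refine Components.twin_mul_mem_pCore_two hcl (show b₁ ∈ nbS D p from hb)
    (show b₂ ∈ nbS D p from hb'n) fun e he => ?_
  have h : Commute (e : G) b' ↔ Commute (e : G) b := by
    constructor
    · intro h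
      have : (e : G) ∈ B D p b' := ⟨he.1, he.2.2.symm, h⟩
      rw [hB] at this
      exact this.2.2
    · intro h
      have : (e : G) ∈ B D p b := ⟨he.1, he.2.2.symm, h⟩
      rw [← hB] at this
      exact this.2.2
  constructor
  · intro q
    have q' : Commute b' (e : G) := congrArg Subtype.val q.eq
    exact Subtype.ext (h.1 q'.symm).symm.eq
  · intro q
    have q' : Commute b (e : G) := congrArg Subtype.val q.eq
    exact Subtype.ext (h.2 q'.symm).symm.eq

/-- A non-central 2-core gives a third point on some line. -/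
theorem exists_third_of_core {x : G} (hx : x ∈ D)
    (h : ¬ Cfsg.pCore 2 ↥(Subgroup.closure (nb D x)) ≤
      Subgroup.center ↥(Subgroup.closure (nb D x))) :
    ∀ p ∈ D, ∀ q ∈ nb D p, ∃ r ∈ Line D p q, r ≠ p ∧ r ≠ q := by
  obtain ⟨e, he, c, hc, hne⟩ : ∃ e ∈ core2 D x, ∃ c ∈ nb D x, cj e c ≠ c := by
    by_contra hno
    push Not at hno
    refine h fun e he => Subgroup.mem_center_iff.2 fun k => Subtype.ext ?_
    have hc : Commute (k : G) (e : G) := by
      refine Subgroup.closure_induction (fun c hc => ?_) (Commute.one_left _)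
        (fun _ _ _ _ h h' => h.mul_left h') (fun _ _ h => h.inv_left) k.2
      exact (commute_of_cj_eq (hno _ ⟨e, he, rfl⟩ c hc)).symm
    exact hc.eq
  intro p hp q hq
  obtain ⟨g, rfl, rfl⟩ := H.exists_cj_pair hx hc hp hq
  refine ⟨cj g (cj e c), (H.onLine_cj g).2 (line_fix H hx hc he), fun e' => ?_,
    fun e' => hne (cj_injective g e')⟩
  have h1 := cj_injective g e'
  exact hc.2.1 (cj_injective e (h1.trans (cj_eq_of_commute (commute_core2 he)).symm))

end Class

/-- A class of 3-transpositions in which every line has a third point. -/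
structure Thk (D : Set G) : Prop extends Cls D where
  big : ∀ p ∈ D, ∀ q ∈ nb D p, ∃ r ∈ Line D p q, r ≠ p ∧ r ≠ q

namespace Thk

variable [Finite G] (K : Thk D)
include K

/-- Translations along a line through `p` move every point off the perp of that line. -/
theorem translate {p a b b' : G} (hp : p ∈ D) (ha : a ∈ nb D p) (hb : b ∈ nb D p)
    (hb' : b' ∈ Line D p b) (hb'p : b' ≠ p) (hne : b' ≠ b) (hab : ¬ Commute a b) :
    cj (b * b') a ∈ Line D p a ∧ cj (b * b') a ≠ p ∧ cj (b * b') a ≠ a := by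
  have he := mul_mem_core2 K.toCls hp hb hb' hb'p
  refine ⟨line_fix K.toCls hp ha he, fun h => ?_, fun h => ?_⟩
  · exact ha.2.1 (cj_injective _ (h.trans (cj_eq_of_commute (commute_core2 he)).symm))
  · have hab' : ¬ Commute a b' := fun h' => hab (by
      have : a ∈ B D p b' := ⟨ha.1, ha.2.2.symm, h'⟩
      rw [K.B_eq_of_onLine hp hb hb' hb'p] at this
      exact this.2.2)
    have h1 : cj b (cj b' a) = cj b (cj b a) := by rw [cj_cj, h, K.cj_invol hb.1]
    have h2 := cj_injective b h1
    rw [← K.braid ha.1 hb'.1 hab', ← K.braid ha.1 hb.1 hab] at h2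
    exact hne (cj_injective a h2)

theorem odd_line {p q : G} (hp : p ∈ D) (hq : q ∈ nb D p) : Odd (Line D p q).ncard := by
  obtain ⟨b, hb, hqb⟩ := K.exists_noncommute_nb hp hq
  obtain ⟨b', hb', hb'p, hb'b⟩ := K.big p hp b hb
  have hmv : ∀ a ∈ Line D p q \ {p}, cj (b * b') a ∈ Line D p q \ {p} ∧ cj (b * b') a ≠ a := by
    rintro a ⟨ha, hap⟩
    have han := mem_nb_of_line K.toCls hp hq ha hap
    have hab : ¬ Commute a b := fun h => hqb (by
      have : b ∈ B D p a := ⟨hb.1, hb.2.2.symm, h.symm⟩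
      rw [K.B_eq_of_onLine hp hq ha hap] at this
      exact this.2.2.symm)
    obtain ⟨h1, h2, h3⟩ := K.translate hp han hb hb' hb'p hb'b hab
    exact ⟨⟨line_eq K.toCls hp hq ha hap ▸ h1, h2⟩, h3⟩
  have hc : Commute b b' := (H80.TTQuad.Cls.commute_of_onLine K.toCls hb hb')
  have hev : Even (Line D p q \ {p}).ncard := by
    refine even_ncard_of_involution (Set.toFinite _) (cj (b * b')) (fun a ha => (hmv a ha).1)
      (fun a ha => (hmv a ha).2) fun a _ => cj_mul_self ?_ a
    rw [mul_assoc, ← mul_assoc b', ← hc.eq, mul_assoc b, K.sq hb'.1, mul_one, K.sq hb.1]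
  rw [← Set.ncard_sdiff_singleton_add_one (show p ∈ Line D p q from K.onLine_left hp)
    (Set.toFinite _)]
  exact hev.add_one

/-- Every member commutes with a point of every line. -/
theorem exists_trace {p q f : G} (hp : p ∈ D) (hq : q ∈ nb D p) (hf : f ∈ D) :
    ∃ r ∈ Line D p q, Commute f r := by
  by_contra hno
  push Not at hno
  have hfp := hno p (K.onLine_left hp)
  have hfq := hno q (K.onLine_right hq)
  have hzz : p * q * (p * q) = 1 := by
    rw [mul_assoc, ← mul_assoc q, ← hq.2.2.eq, mul_assoc p, K.sq hq.1, mul_one, K.sq hp]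
  set w := f * (p * q) * f with hw
  have hww : w * w = 1 := by
    rw [hw, show f * (p * q) * f * (f * (p * q) * f) = f * (p * q) * (f * f) * (p * q) * f by group,
      K.sq hf, mul_one, mul_assoc f (p * q) (p * q), hzz, mul_one, K.sq hf]
  have hwp : cj w p = q := by
    rw [hw, ← cj_cj, ← cj_cj, ← cj_cj, K.braid hf hp hfp,
      (show cj p (cj q (cj p f)) = cj q (cj p (cj p f)) by
        rw [cj_cj p q, hq.2.2.eq, ← cj_cj q p]),
      K.cj_invol hp, ← K.braid hf hq.1 hfq, K.cj_invol hf]
  have hwq : cj w q = p := by rw [← hwp, cj_mul_self hww]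
  have hev : Even (Line D p q \ {p, q}).ncard := by
    refine even_ncard_of_involution (Set.toFinite _) (cj w) ?_ ?_ (fun a _ => cj_mul_self hww a)
    · rintro a ⟨ha, hap⟩
      have h : cj w a ∈ cj w '' Line D p q := ⟨a, ha, rfl⟩
      rw [cj_line K.toCls, hwp, hwq, line_comm] at h
      simp only [Set.mem_insert_iff, Set.mem_singleton_iff, not_or] at hap
      refine ⟨h, ?_⟩
      simp only [Set.mem_insert_iff, Set.mem_singleton_iff, not_or]
      exact ⟨fun e => hap.2 (cj_injective w (e.trans hwq.symm)),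
        fun e => hap.1 (cj_injective w (e.trans hwp.symm))⟩
    · rintro a ⟨ha, -⟩ he
      have hfa := hno a ha
      have haB := line_subset_B hp hq ha
      have h1 : cj (p * q) (cj f a) = cj f a := by
        conv_rhs => rw [← he, hw, ← cj_cj, ← cj_cj, K.cj_invol hf]
      rw [K.braid hf ha.1 hfa] at h1
      have h2 : Commute (p * q) a := haB.2.1.symm.mul_left haB.2.2.symm
      have h3 : cj (p * q) (cj a f) = cj a (cj (p * q) f) := by rw [cj_cj, cj_cj, h2.eq]
      rw [h3] at h1
      have h4 := cj_injective a h1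
      rw [← cj_cj] at h4
      have h5 : cj q f = cj p f := by
        calc cj q f = cj p (cj p (cj q f)) := (K.cj_invol hp _).symm
          _ = cj p f := by rw [h4]
      rw [← K.braid hf hp hfp, ← K.braid hf hq.1 hfq] at h5
      exact hq.2.1 (cj_injective f h5)
  have hsub : ({p, q} : Set G) ⊆ Line D p q := by
    rintro d (rfl | rfl)
    exacts [K.onLine_left hp, K.onLine_right hq]
  have hodd := K.odd_line hp hq
  rw [← Set.ncard_sdiff_add_ncard_of_subset hsub (Set.toFinite _), Set.ncard_pair hq.2.1.symm]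
    at hodd
  exact Nat.not_even_iff_odd.2 hodd (hev.add even_two)

/-- A member commuting with two points of a line commutes with all of it. -/
theorem mem_B_of_two {p q r r' f : G} (hp : p ∈ D) (hq : q ∈ nb D p) (hr : r ∈ Line D p q)
    (hr' : r' ∈ Line D p q) (hne : r ≠ r') (hf : f ∈ D) (h : Commute f r) (h' : Commute f r') :
    f ∈ B D p q := by
  rw [← B_eq_two K.toCls hp hq hr hr' hne]
  exact ⟨hf, h, h'⟩

theorem trace_unique {p q f r r' : G} (hp : p ∈ D) (hq : q ∈ nb D p) (hf : f ∈ D)
    (hnf : f ∉ B D p q) (hr : r ∈ Line D p q) (hr' : r' ∈ Line D p q) (h : Commute f r)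
    (h' : Commute f r') : r = r' :=
  by_contra fun hne => hnf (K.mem_B_of_two hp hq hr hr' hne hf h h')

end Thk

end Cfsg.Agent.H68.Thick
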