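import Cfsg.Agent.H68.Thick.Size
import Cfsg.Agent.Coprime.UTT.Basic

/-!
Thick classes of 3-transpositions with lines of five points, and coordinates for them in a
Hermitian space over the field with four elements.
-/

set_option autoImplicit false

namespace Cfsg.Agent.H68.Thick

open Cfsg
open H76.LocallyS3 (nb cj)
open Coprime.UTT (Iso)

universe u

variable {G : Type u} [Group G]

/-- Every line has five points. -/
structure Five (D : Set G) : Prop extends Thk D where
  five : ∀ p ∈ D, ∀ q ∈ nb D p, (Line D p q).ncard = 5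

variable {F : Type} [Field F] [Fintype F] {m : ℕ}

local notation "⟪" u ", " v "⟫" => hermForm m F 2 u v

/-- `pt` identifies the points of the Hermitian space with the members of `D`, orthogonality
being commutation. -/
structure Coord (D : Set G) (pt : (Fin m → F) → G) : Prop where
  card : Fintype.card F = 2 ^ 2
  four : 4 ≤ m
  mem : ∀ v, Iso v → v ≠ 0 → pt v ∈ D
  surj : ∀ d ∈ D, ∃ v, Iso v ∧ v ≠ 0 ∧ pt v = d
  smul : ∀ (v : Fin m → F) (c : F), Iso v → v ≠ 0 → c ≠ 0 → pt (c • v) = pt v
  inj : ∀ v w, Iso v → v ≠ 0 → Iso w → w ≠ 0 → pt v = pt w → ∃ c : F, w = c • v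
  comm : ∀ v w, Iso v → v ≠ 0 → Iso w → w ≠ 0 → (Commute (pt v) (pt w) ↔ ⟪v, w⟫ = 0)

/-- Coordinates for the residue of a non-commuting pair `x`, `f`. -/
structure Resid (D : Set G) (x f : G) (pt : (Fin m → F) → G) : Prop where
  geo : Five D
  hx : x ∈ D
  hf : f ∈ D
  nxf : ¬ Commute x f
  coord : Coord (nb D x ∩ nb D f) pt
  third : ∀ v w, Iso v → v ≠ 0 → Iso w → w ≠ 0 → cj (pt v) (pt w) = pt (w + ⟪w, v⟫ • v)

end Cfsg.Agent.H68.Thick
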