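import Cfsg.Agent.H68.Thick.Basic

/-!
In a thick class of 3-transpositions the stabiliser of a line contains all cycles of length three
on it, so that a line has three or five points.
-/

set_option autoImplicit false
set_option linter.unusedSectionVars false

namespace Cfsg.Agent.H68.Thick

open Cfsg
open H76.LocallyS3 (nb cj cj_cj cj_injective commute_cj_iff)
open H80.TTQuad (Cls B OnLine cj_one cj_inv_cj cj_cj_inv cj_eq_of_commute commute_of_cj_eq nb_symm
  B_comm cj_mul_self commute_of_mem_closure_nb)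

universe u

variable {G : Type u} [Group G] {D : Set G}

/-- Two commuting non-commuting pairs `x, y` and `a, b`. -/
structure Grid (D : Set G) (x y a b : G) : Prop where
  hx : x ∈ D
  hy : y ∈ D
  hb : b ∈ nb D x
  ha : a ∈ nb D x
  nxy : ¬ Commute x y
  nab : ¬ Commute a b
  hay : Commute a y
  hby : Commute b y

theorem Grid.hb' {x y a b : G} (h : Grid D x y a b) : b ∈ nb D y :=
  ⟨h.hb.1, fun e => h.nxy (by rw [← e]; exact h.hb.2.2), h.hby.symm⟩

/-- The element exchanging the two sides of a grid. -/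
def swapElt (x y a b : G) : G := cj x y * cj a b

theorem cj_mul_comm {s t u : G} (h : Commute s t) : cj s (cj t u) = cj t (cj s u) := by
  rw [cj_cj, cj_cj, h.eq]

namespace Thk

variable [Finite G] (K : Thk D)
include K

theorem line_trace {x y a b r : G} (h : Grid D x y a b) (hr : r ∈ Line D x a)
    (hry : Commute r y) : r = a := by
  refine K.trace_unique h.hx h.ha h.hy (fun hB => h.nxy hB.2.1.symm) hr (K.onLine_right h.ha)
    hry.symm h.hay.symm

theorem line_trace' {x y a b r : G} (h : Grid D x y a b) (hr : r ∈ Line D x a)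
    (hrb : Commute r b) : r = x := by
  refine K.trace_unique h.hx h.ha h.hb.1 (fun hB => h.nab hB.2.2.symm) hr (K.onLine_left h.hx)
    hrb.symm h.hb.2.2.symm

theorem swap_props {x y a b : G} (h : Grid D x y a b) :
    cj (swapElt x y a b) x = y ∧ cj (swapElt x y a b) a = b ∧ cj (swapElt x y a b) b = a ∧
      (∀ r ∈ Line D x a, cj (swapElt x y a b) r ∈ Line D y b) ∧
      (∀ r ∈ Line D x a, r ≠ x → r ≠ a → Commute r (cj (swapElt x y a b) r)) := by
  have hx := h.hx
  have hy := h.hy
  have hb := h.hb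
  have ha := h.ha
  have h1 : cj (cj x y) x = y := by
    have e : cj x y = cj y x := K.braid hx hy h.nxy
    calc cj (cj x y) x = cj x (cj y (cj x x)) := by
          simp only [cj, K.inv' hx, K.inv' hy, mul_inv_rev, mul_assoc]
      _ = cj x (cj y x) := by rw [cj_eq_of_commute (Commute.refl x)]
      _ = cj x (cj x y) := by rw [e]
      _ = y := K.cj_invol hx y
  have h2 : cj (cj a b) a = b := by
    have e : cj a b = cj b a := K.braid ha.1 hb.1 h.nab
    calc cj (cj a b) a = cj a (cj b (cj a a)) := by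
          simp only [cj, K.inv' ha.1, K.inv' hb.1, mul_inv_rev, mul_assoc]
      _ = cj a (cj b a) := by rw [cj_eq_of_commute (Commute.refl a)]
      _ = cj a (cj a b) := by rw [e]
      _ = b := K.cj_invol ha.1 b
  have hcm : ∀ {u v w : G}, Commute u w → Commute v w → Commute (cj u v) w := fun {u v w} h h' =>
    (((h.mul_left h').mul_left h.inv_left) : _)
  have hcx : Commute (cj a b) x := hcm ha.2.2.symm hb.2.2.symm
  have hqa : Commute (cj x y) a := hcm ha.2.2 h.hay.symm
  have hqb : Commute (cj x y) b := hcm hb.2.2 h.hby.symm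
  have h3 : cj (cj a b) b = a := by
    have e : cj (cj a b) b = cj a (cj b (cj a b)) := by
      simp only [cj, K.inv' ha.1, K.inv' hb.1, mul_inv_rev, mul_assoc]
    rw [e, K.braid ha.1 hb.1 h.nab, K.cj_invol hb.1, cj_eq_of_commute (Commute.refl a)]
  have gx : cj (swapElt x y a b) x = y := by
    rw [swapElt, ← cj_cj, cj_eq_of_commute hcx, h1]
  have ga : cj (swapElt x y a b) a = b := by
    rw [swapElt, ← cj_cj, h2, cj_eq_of_commute hqb]
  have gb : cj (swapElt x y a b) b = a := by
    rw [swapElt, ← cj_cj, h3, cj_eq_of_commute hqa]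
  refine ⟨gx, ga, gb, fun r hr => ?_, fun r hr hrx hra => ?_⟩
  · have : cj (swapElt x y a b) r ∈ cj (swapElt x y a b) '' Line D x a := ⟨r, hr, rfl⟩
    rwa [cj_line K.toCls, gx, ga] at this
  · have hrB := line_subset_B hx ha hr
    have hrD := hrB.1
    have nry : ¬ Commute r y := fun q => hra (K.line_trace h hr q)
    have nrb : ¬ Commute r b := fun q => hrx (K.line_trace' h hr q)
    have key : Commute (cj r y) (cj r b) := commute_cj_iff.2 h.hby.symm
    have hau : Commute a (cj r y) := (hcm hrB.2.2 h.hay.symm).symm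
    have hxv : Commute x (cj r b) := (hcm hrB.2.1 hb.2.2.symm).symm
    have key2 : Commute (cj x (cj r y)) (cj a (cj r b)) := by
      rw [← commute_cj_iff (g := x), K.cj_invol hx, cj_mul_comm ha.2.2,
        cj_eq_of_commute hxv, ← commute_cj_iff (g := a), cj_eq_of_commute hau, K.cj_invol ha.1]
      exact key
    have e1 : cj (cj x y) r = cj x (cj r y) := by
      rw [← K.braid hy hrD fun q => nry q.symm]
      have e : cj (cj x y) r = cj x (cj y (cj x r)) := by
        simp only [cj, K.inv' hx, K.inv' hy, mul_inv_rev, mul_assoc]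
      rw [e, cj_eq_of_commute hrB.2.1.symm]
    have e2 : cj (cj a b) r = cj a (cj r b) := by
      rw [← K.braid hb.1 hrD fun q => nrb q.symm]
      have e : cj (cj a b) r = cj a (cj b (cj a r)) := by
        simp only [cj, K.inv' ha.1, K.inv' hb.1, mul_inv_rev, mul_assoc]
      rw [e, cj_eq_of_commute hrB.2.2.symm]
    rw [← e1, ← e2] at key2
    rw [swapElt, ← cj_cj, ← commute_cj_iff (g := cj x y),
      K.cj_invol (K.mem_cj x hy)]
    exact key2

theorem trace_eq {x y a b r r' s : G} (h : Grid D x y a b) (hs : s ∈ Line D x a) (hsa : s ≠ a)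
    (hr : r ∈ Line D y b) (hr' : r' ∈ Line D y b) (c : Commute s r) (c' : Commute s r') : r = r' := by
  refine K.trace_unique h.hy h.hb' hs.1 (fun hB => hsa (K.line_trace h hs hB.2.1)) hr hr' c c'

/-- Every cycle of length three on a line is induced by its stabiliser. -/
theorem exists_cycle {p q x r a : G} (hp : p ∈ D) (hq : q ∈ nb D p) (hx : x ∈ Line D p q)
    (hr : r ∈ Line D p q) (ha : a ∈ Line D p q) (hxr : x ≠ r) (hra : r ≠ a) (hxa : x ≠ a) :
    ∃ g : G, cj g x = r ∧ cj g r = a ∧ cj g a = x ∧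
      ∀ s ∈ Line D p q, s ≠ x → s ≠ r → s ≠ a → cj g s = s := by
  have hxn : a ∈ nb D x := ⟨ha.1, fun e => hxa e.symm, line_commute K.toCls hp hq hx ha⟩
  have hL : Line D x a = Line D p q := line_eq_two K.toCls hp hq hx ha hxa
  obtain ⟨y, hy, hxy⟩ := K.exists_noncommute_nb ha.1 (nb_symm hx.1 hxn)
  obtain ⟨d, hd, had⟩ := K.exists_noncommute_nb hx.1 hxn
  obtain ⟨b, hb, hyb⟩ := K.exists_trace hx.1 hd hy.1
  have hbx : b ≠ x := fun e => hxy (e ▸ hyb).symm
  have hbn := mem_nb_of_line K.toCls hx.1 hd hb hbx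
  have hab : ¬ Commute a b := fun h => had
    (K.mem_B_of_two hx.1 hd (K.onLine_left hx.1) hb hbx.symm ha.1 hxn.2.2.symm h).2.2
  have hgr : Grid D x y a b := ⟨hx.1, hy.1, hbn, hxn, hxy, hab, hy.2.2, hyb.symm⟩
  obtain ⟨gx, ga, gb, gL, gC⟩ := K.swap_props hgr
  set g := swapElt x y a b
  rw [← hL] at hr
  set r2 := cj g r
  have hr2 := gL r hr
  have hr2x : ¬ Commute x r2 := by
    intro h
    have : r2 = b := by
      refine K.trace_unique hgr.hy hgr.hb' hx.1 (fun hB => hxy hB.2.1) hr2
        (K.onLine_right hgr.hb') h hbn.2.2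
    exact hra (cj_injective g (this.trans ga.symm))
  have hrb : ¬ Commute r b := fun h => hxr (K.line_trace' hgr hr h).symm
  have hr2b : Commute b r2 := line_commute K.toCls hgr.hy hgr.hb' (K.onLine_right hgr.hb') hr2
  have hrn : r ∈ nb D x := mem_nb_of_line K.toCls hx.1 hxn hr hxr.symm
  have hgr2 : Grid D x r2 r b := ⟨hx.1, hr2.1, hbn, hrn, hr2x, hrb, gC r hr hxr.symm hra, hr2b⟩
  obtain ⟨kx, kr, kb, kL, kC⟩ := K.swap_props hgr2
  set k := swapElt x r2 r b
  have hL1 : Line D x r = Line D x a := line_eq K.toCls hx.1 hxn hr hxr.symm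
  have hne : r2 ≠ b := fun e => hra (cj_injective g (e.trans ga.symm))
  have hL2 : Line D r2 b = Line D y b :=
    line_eq_two K.toCls hgr.hy hgr.hb' hr2 (K.onLine_right hgr.hb') hne
  rw [hL1] at kL kC
  rw [hL2] at kL
  have ka : cj k a = y := by
    refine K.trace_unique hgr.hy hgr.hb' ha.1 (fun hB => hab hB.2.2) (kL a (K.onLine_right hxn))
      (K.onLine_left hgr.hy) (kC a (K.onLine_right hxn) (fun e => hxa e.symm) fun e => hra e.symm)
      hgr.hay
  refine ⟨g⁻¹ * k, ?_, ?_, ?_, fun s hs hsx hsr hsa => ?_⟩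
  · rw [← cj_cj, kx, cj_inv_cj]
  · rw [← cj_cj, kr, ← ga, cj_inv_cj]
  · rw [← cj_cj, ka, ← gx, cj_inv_cj]
  · rw [← hL] at hs
    have e : cj k s = cj g s := K.trace_eq hgr hs hsa (kL s hs) (gL s hs) (kC s hs hsx hsr)
      (gC s hs hsx hsa)
    rw [← cj_cj, e, cj_inv_cj]

/-- A line has three or five points. -/
theorem line_cases {p q : G} (hp : p ∈ D) (hq : q ∈ nb D p) :
    (Line D p q).ncard = 3 ∨ (Line D p q).ncard = 5 := by
  have h3 : 3 ≤ (Line D p q).ncard := by
    obtain ⟨r, hr, hrp, hrq⟩ := K.big p hp q hq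
    have hsub : ({p, q, r} : Set G) ⊆ Line D p q := by
      rintro d (rfl | rfl | rfl)
      exacts [K.onLine_left hp, K.onLine_right hq, hr]
    have h := Set.ncard_le_ncard hsub (Set.toFinite _)
    rwa [Set.ncard_eq_three.2 ⟨p, q, r, hq.2.1.symm, fun e => hrp e.symm, fun e => hrq e.symm, rfl⟩]
      at h
  obtain ⟨m, hm⟩ := K.odd_line hp hq
  rcases le_or_gt (Line D p q).ncard 5 with h5 | h5
  · omega
  exfalso
  obtain ⟨b, hb, hqb⟩ := K.exists_noncommute_nb hp hq
  obtain ⟨b', hb', hb'p, hb'b⟩ := K.big p hp b hb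
  set e := b * b' with hedef
  have hc : Commute b b' := H80.TTQuad.Cls.commute_of_onLine K.toCls hb hb'
  have hee : e * e = 1 := by
    rw [hedef, mul_assoc, ← mul_assoc b', ← hc.eq, mul_assoc b, K.sq hb'.1, mul_one, K.sq hb.1]
  have hmv : ∀ s ∈ Line D p q, s ≠ p → cj e s ∈ Line D p q ∧ cj e s ≠ p ∧ cj e s ≠ s := by
    intro s hs hsp
    have hsn := mem_nb_of_line K.toCls hp hq hs hsp
    have hsb : ¬ Commute s b := fun h => hqb (by
      have : b ∈ B D p s := ⟨hb.1, hb.2.2.symm, h.symm⟩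
      rw [K.B_eq_of_onLine hp hq hs hsp] at this
      exact this.2.2.symm)
    obtain ⟨h1, h2, h3⟩ := K.translate hp hsn hb hb' hb'p hb'b hsb
    exact ⟨line_eq K.toCls hp hq hs hsp ▸ h1, h2, h3⟩
  have pick : ∀ S : Finset G, S.card < 7 → ∃ s ∈ Line D p q, s ∉ S := by
    intro S hS
    by_contra hno
    push Not at hno
    have h := Set.ncard_le_ncard (show Line D p q ⊆ ↑S from hno) S.finite_toSet
    rw [Set.ncard_coe_finset] at h
    omega
  classical
  have card_le : ∀ a b c d f : G, ({a, b, c, d, f} : Finset G).card < 7 := fun a b c d f => by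
    have h1 := Finset.card_insert_le a {b, c, d, f}
    have h2 := Finset.card_insert_le b {c, d, f}
    have h3 := Finset.card_insert_le c {d, f}
    have h4 := Finset.card_insert_le d ({f} : Finset G)
    rw [Finset.card_singleton] at h4
    omega
  obtain ⟨a, ha, ha'⟩ := pick {p, p, p, p, p} (card_le _ _ _ _ _)
  simp only [Finset.mem_insert, Finset.mem_singleton, or_self] at ha'
  obtain ⟨ea, eap, eaa⟩ := hmv a ha ha'
  obtain ⟨c, hcL, hc'⟩ := pick {p, a, cj e a, p, p} (card_le _ _ _ _ _)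
  simp only [Finset.mem_insert, Finset.mem_singleton, or_self, not_or] at hc'
  obtain ⟨hcp, hca, hcea, -⟩ := hc'
  obtain ⟨ec, ecp, ecc⟩ := hmv c hcL hcp
  obtain ⟨f, hf, hf'⟩ := pick {p, a, cj e a, c, cj e c} (card_le _ _ _ _ _)
  simp only [Finset.mem_insert, Finset.mem_singleton, not_or] at hf'
  obtain ⟨hfp, hfa, hfea, hfc, hfec⟩ := hf'
  obtain ⟨ef, efp, eff⟩ := hmv f hf hfp
  obtain ⟨σ, sa, sc, sf, sfix⟩ := K.exists_cycle hp hq ha hcL hf (fun q => hca q.symm)
    (fun q => hfc q.symm) fun q => hfa q.symm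
  have swap : ∀ {u v : G}, cj e u = v → cj e v = u := fun {u v} q => by
    rw [← q, cj_mul_self hee]
  have fa : cj σ (cj e a) = cj e a := sfix _ ea eaa (fun q => hcea q.symm) fun q => hfea q.symm
  have fc : cj σ (cj e c) = cj e c :=
    sfix _ ec (fun q => hcea (swap q).symm) ecc fun q => hfec q.symm
  have ff : cj σ (cj e f) = cj e f :=
    sfix _ ef (fun q => hfea (swap q).symm) (fun q => hfec (swap q).symm) eff
  have sp : cj σ p = p :=
    sfix p (K.onLine_left hp) (fun q => ha' q.symm) (fun q => hcp q.symm) fun q => hfp q.symm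
  set h := σ * e * σ⁻¹ * e with hh
  have hcalc : ∀ {u v w : G}, cj σ (cj e u) = cj e u → cj σ u = v → cj h u = v := by
    intro u v _ q1 q2
    have q3 : cj σ⁻¹ (cj e u) = cj e u := by
      conv_lhs => rw [← q1, cj_inv_cj]
    rw [hh, ← cj_cj, ← cj_cj, ← cj_cj, q3, cj_mul_self hee, q2]
  have hha : cj h a = c := hcalc (w := a) fa sa
  have hhc : cj h c = f := hcalc (w := a) fc sc
  have hhf : cj h f = a := hcalc (w := a) ff sf
  have hsb : cj σ b ∈ nb D p := K.cj_mem_nb (commute_of_cj_eq sp) hb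
  have hsb' : cj σ b' ∈ Line D p (cj σ b) := by
    have : cj σ b' ∈ cj σ '' Line D p b := ⟨b', hb', rfl⟩
    rwa [cj_line K.toCls, sp] at this
  have hsb'p : cj σ b' ≠ p := fun q => hb'p (cj_injective σ (q.trans sp.symm))
  have hmem : h ∈ core2 D p := by
    have h1 := mul_mem_core2 K.toCls hp hsb hsb' hsb'p
    have h2 := mul_mem_core2 K.toCls hp hb hb' hb'p
    have e1 : cj σ b * cj σ b' * (b * b') = h := by simp [hh, hedef, cj, mul_assoc]
    rw [← e1]
    exact mul_mem h1 h2
  obtain ⟨k, hk⟩ := core2_isPGroup (D := D) p ⟨h, hmem⟩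
  have hk' : h ^ 2 ^ k = 1 := congrArg Subtype.val hk
  have key : ∀ n : ℕ, cj (h ^ n) a = if n % 3 = 0 then a else if n % 3 = 1 then c else f := by
    intro n
    induction n with
    | zero => simp [cj_one]
    | succ n ih =>
      rw [pow_succ', ← cj_cj, ih]
      rcases (by omega : n % 3 = 0 ∨ n % 3 = 1 ∨ n % 3 = 2) with e | e | e <;>
        simp [e, Nat.add_mod, hha, hhc, hhf]
  have h2k := key (2 ^ k)
  rw [hk', cj_one] at h2k
  have h20 : (2 ^ k) % 3 ≠ 0 := fun q => by
    have := (Nat.Prime.dvd_of_dvd_pow Nat.prime_three (Nat.dvd_of_mod_eq_zero q))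
    omega
  rw [if_neg h20] at h2k
  split_ifs at h2k
  · exact hca h2k.symm
  · exact hfa h2k.symm

end Thk

end Cfsg.Agent.H68.Thick
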